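import Groth.Agent.Lib.AlgSt.SepDense
import Groth.Agent.Lib.AlgSt.DiagDM
import Groth.Agent.Lib.AlgSp.Unramified

/-!
# Automorphisms in a stack with separated unramified diagonal agreeing over a dense set of points
-/

set_option backward.isDefEq.respectTransparency false
set_option backward.isDefEq.respectTransparency.types false

universe u

open CategoryTheory CategoryTheory.Limits AlgebraicGeometry Opposite

namespace GrothLib.AlgSt

open _root_.AlgSt GrothLib.FibCat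

variable {S : Scheme.{u}} {𝒳 : _root_.AlgSt.Cat S}

/-- Two sections of a separated unramified morphism of algebraic spaces over a scheme agreeing over a dense set of
points agree: the locus where they agree is open and closed. -/
theorem sections_eq_of_agree_dense {F : AlgSp.Sp S} (hF : AlgSp.IsAlgSpace F) {U : Over S}
    (π : F ⟶ (AlgSp.yon S).obj U) (hπ : AlgSp.IsSeparatedMor π) (hu : AlgSp.LocP UnrP π)
    (s t : F.obj.obj (op U)) (hs : π.hom.app (op U) s = ⟨𝟙 U⟩) (ht : π.hom.app (op U) t = ⟨𝟙 U⟩)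
    (h : Dense {x : U.left | ∃ (V : Over S) (j : V ⟶ U), x ∈ Set.range j.left ∧
      F.obj.map j.op s = F.obj.map j.op t}) : s = t := by
  let a := (AlgSp.J S).uliftYonedaEquiv.{u + 1}.symm s
  let b := (AlgSp.J S).uliftYonedaEquiv.{u + 1}.symm t
  have ha : a ≫ π = b ≫ π := by
    apply (AlgSp.J S).uliftYonedaEquiv.{u + 1}.injective
    rw [GrothendieckTopology.uliftYonedaEquiv_comp, GrothendieckTopology.uliftYonedaEquiv_comp,
      Equiv.apply_symm_apply, Equiv.apply_symm_apply, hs, ht]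
  let g : (AlgSp.yon S).obj U ⟶ pullback π π := pullback.lift a b ha
  have hπ' : AlgSp.RepWith @IsClosedImmersion (pullback.diagonal π) := hπ
  have hπo : AlgSp.RepWith @IsOpenImmersion (pullback.diagonal π) :=
    GrothLib.AlgSp.repWith_openImmersion_diagonal_of_unramified hF (AlgSp.IsAlgSpace.yon_obj U) hu
  obtain ⟨Z, fst, c, sq⟩ := GrothLib.AlgSp.exists_isPullback_of_representable hπ'.1 g
  have : IsClosedImmersion c.left := hπ'.2 g fst c sq
  have : IsOpenImmersion c.left := hπo.2 g fst c sq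
  have hsub : {x : U.left | ∃ (V : Over S) (j : V ⟶ U), x ∈ Set.range j.left ∧
      F.obj.map j.op s = F.obj.map j.op t} ⊆ Set.range c.left := by
    rintro x ⟨V, j, ⟨v, rfl⟩, hv⟩
    have hj : (AlgSp.yon S).map j ≫ a = (AlgSp.yon S).map j ≫ b := by
      apply (AlgSp.J S).uliftYonedaEquiv.{u + 1}.injective
      rw [← GrothendieckTopology.uliftYonedaEquiv_naturality, ← GrothendieckTopology.uliftYonedaEquiv_naturality,
        Equiv.apply_symm_apply, Equiv.apply_symm_apply, hv]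
    have hw : ((AlgSp.yon S).map j ≫ a) ≫ pullback.diagonal π = (AlgSp.yon S).map j ≫ g := by
      apply pullback.hom_ext
      · simp [g]
      · simp only [g, Category.assoc, pullback.diagonal_snd, pullback.lift_snd, Category.comp_id]
        exact hj
    let l := sq.lift _ _ hw
    obtain ⟨l', hl'⟩ := (AlgSp.yon S).map_surjective l
    have hl : l' ≫ c = j := (AlgSp.yon S).map_injective (by rw [Functor.map_comp, hl']; exact sq.lift_snd _ _ hw)
    refine ⟨l'.left v, ?_⟩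
    rw [← hl]
    rfl
  have : Surjective c.left := by
    refine ⟨Set.range_eq_univ.1 ?_⟩
    have hcl : IsClosed (Set.range c.left) := c.left.isClosedEmbedding.isClosed_range
    rw [← hcl.closure_eq]
    exact (h.mono hsub).closure_eq
  have : IsIso c.left := (isIso_iff_isOpenImmersion_and_surjective c.left).2 ⟨inferInstance, inferInstance⟩
  have : IsIso ((Over.forget S).map c) := this
  have : IsIso c := isIso_of_reflects_iso c (Over.forget S)
  have hab : a = b := by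
    rw [← cancel_epi ((AlgSp.yon S).map c)]
    have h1 := congrArg (fun q => q ≫ pullback.fst π π) sq.w
    have h2 := congrArg (fun q => q ≫ pullback.snd π π) sq.w
    simp only [g, Category.assoc, pullback.diagonal_fst, pullback.diagonal_snd, pullback.lift_fst,
      pullback.lift_snd, Category.comp_id] at h1 h2
    rw [← h1, ← h2]
  exact (AlgSp.J S).uliftYonedaEquiv.{u + 1}.symm.injective hab

/-- Vertical endomorphisms agreeing over a dense set of points agree, if the diagonal is separated and unramified. -/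
theorem aut_eq_of_agree_dense (hd : RepByAlgSpWith AlgSp.IsSeparatedMor (_root_.FibCat.diag (_root_.FibCat.toSelf 𝒳)))
    (hu : RepByAlgSpWith (AlgSp.LocP UnrP) (_root_.FibCat.diag (_root_.FibCat.toSelf 𝒳)))
    (h𝒳 : _root_.FibCat.IsFibGrpd 𝒳.p) {y : 𝒳.obj} (a b : y ⟶ y) (ha : 𝒳.p.map a = 𝟙 _)
    (hb : 𝒳.p.map b = 𝟙 _) (hA : Dense {x : (𝒳.p.obj y).left | ∃ (y' : 𝒳.obj) (κ : y' ⟶ y),
      x ∈ Set.range (𝒳.p.map κ).left ∧ κ ≫ a = κ ≫ b}) : a = b := by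
  have hia : 𝒳.p.IsHomLift (𝟙 (𝒳.p.obj y)) a := by rw [← ha]; exact IsHomLift.map 𝒳.p a
  have hib : 𝒳.p.IsHomLift (𝟙 (𝒳.p.obj y)) b := by rw [← hb]; exact IsHomLift.map 𝒳.p b
  obtain ⟨Y, eY, heY⟩ := Yon.exists_functor h𝒳 y (rfl : 𝒳.p.obj y = _)
  let G := BasedFunctor.comp Y (_root_.FibCat.diag (_root_.FibCat.toSelf 𝒳))
  obtain ⟨F, e, he, hunr, hsep⟩ := repByAlgSpWith_inf isoInvariant_locP hu hd (𝒳.p.obj y) G
  have hfull := IsEquivOver.full he
  let o : (_root_.FibCat.overCat (𝒳.p.obj y)).obj := Yon.idObj (𝒳.p.obj y)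
  let D := _root_.FibCat.diag (_root_.FibCat.toSelf 𝒳)
  have h1 : 𝒳.p.map eY.hom = eqToHom (Y.w_obj o) := by
    have := heY
    simpa using IsHomLift.fac' 𝒳.p (𝟙 (𝒳.p.obj y)) eY.hom
  have hwi : ∀ (c : y ⟶ y), 𝒳.p.map c = 𝟙 _ →
      𝒳.p.map eY.hom ≫ 𝟙 _ = 𝟙 _ ≫ 𝒳.p.map (eY.hom ≫ c) := fun c hc => by
    rw [𝒳.p.map_comp, hc, Category.comp_id, Category.id_comp]
  have := IsFibGrpd.isIso_of_isHomLift_id h𝒳 (R := 𝒳.p.obj y) a
  have := IsFibGrpd.isIso_of_isHomLift_id h𝒳 (R := 𝒳.p.obj y) b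
  let Oa : (_root_.FibCat.fp G D).obj := Fp.mk (F := G) (G := D) o y
    (Fp.isoMk (a := G.obj o) (b := D.obj y) eY (eY ≪≫ asIso a) (hwi a ha)) ((Fp.isHomLift_iff _ _).2 heY)
  let Ob : (_root_.FibCat.fp G D).obj := Fp.mk (F := G) (G := D) o y
    (Fp.isoMk (a := G.obj o) (b := D.obj y) eY (eY ≪≫ asIso b) (hwi b hb)) ((Fp.isHomLift_iff _ _).2 heY)
  obtain ⟨sa, ia, hia'⟩ := exists_section_of_obj he Oa rfl
  obtain ⟨sb, ib, hib'⟩ := exists_section_of_obj he Ob rfl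
  have hG := Fp.isFibGrpd (F := G) (G := D) (GrothLib.FibCat.isFibGrpd_overCat (𝒳.p.obj y)) h𝒳
    (Fp.isFibGrpd h𝒳 h𝒳 GrothLib.FibCat.isFibGrpd_selfOver)
  have hsame : ∀ {y' : 𝒳.obj} (κ : y' ⟶ y), κ ≫ a = κ ≫ b →
      F.obj.obj.map (𝒳.p.map κ).op sa = F.obj.obj.map (𝒳.p.map κ).op sb := by
    intro y' κ h
    obtain ⟨O', f, hf⟩ := hG.exists_lift (x := Oa) (𝒳.p.map κ)
    have hf2 : 𝒳.p.IsHomLift (𝒳.p.map κ) f.hom.snd := Fp.isHomLift_snd f _ hf
    have hf1 : (_root_.FibCat.overCat (𝒳.p.obj y)).p.IsHomLift (𝒳.p.map κ) f.hom.fst := (Fp.isHomLift_iff f _).1 hf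
    have hY : 𝒳.p.IsHomLift (𝒳.p.map κ) (Y.map f.hom.fst ≫ eY.hom) := by
      have := heY
      exact IsHomLift.comp_lift_id_right' 𝒳.p _ _ (𝒳.p.obj y) _
    obtain ⟨θ, -, hθ⟩ := IsFibGrpd.exists_iso_of_lifts h𝒳 (𝒳.p.map κ) κ (Y.map f.hom.fst ≫ eY.hom)
    have hagree : Y.map f.hom.fst ≫ eY.hom ≫ a = Y.map f.hom.fst ≫ eY.hom ≫ b := by
      rw [← Category.assoc, ← hθ, Category.assoc, h, ← Category.assoc, hθ, Category.assoc]
    have hw := Fp.w f
    let g : O' ⟶ Ob := Fp.homMk f.hom.fst f.hom.snd (by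
      refine Fp.hom_ext ?_ ?_
      · exact congrArg (fun q => q.hom.fst) hw
      · exact hagree.symm.trans (congrArg (fun q => q.hom.snd) hw))
    obtain ⟨s', i', hi'⟩ := exists_section_of_obj he O' (IsHomLift.domain_eq _ (𝒳.p.map κ) f)
    have hrestr : ∀ (s : F.obj.obj.obj (op (𝒳.p.obj y))) (O : (_root_.FibCat.fp G D).obj) (i : e.obj ⟨_, s⟩ ≅ O),
        (_root_.FibCat.fp G D).p.IsHomLift (𝟙 (𝒳.p.obj y)) i.hom → ∀ φ : O' ⟶ O,
        (_root_.FibCat.fp G D).p.IsHomLift (𝒳.p.map κ) φ → F.obj.obj.map (𝒳.p.map κ).op s = s' := by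
      intro s O i hi φ hφ
      have : (_root_.FibCat.fp G D).p.IsHomLift (𝟙 (𝒳.p.obj y)) i.inv := IsHomLift.lift_id_inv _ _ _
      have : (_root_.FibCat.fp G D).p.IsHomLift (𝒳.p.map κ) (φ ≫ i.inv) :=
        IsHomLift.comp_lift_id_right' _ _ _ (𝒳.p.obj y) _
      have : (_root_.FibCat.fp G D).p.IsHomLift (𝒳.p.map κ) (i'.hom ≫ φ ≫ i.inv) :=
        IsHomLift.comp_lift_id_left' _ (𝒳.p.obj y') i'.hom _ _
      obtain ⟨ψ, hψ⟩ := e.toFunctor.map_surjective (i'.hom ≫ φ ≫ i.inv)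
      have hl : (_root_.FibCat.fp G D).p.IsHomLift (𝒳.p.map κ) (e.map ψ) := by rwa [hψ]
      have h2 := (e.isHomLift_iff _ ψ).1 hl
      have h3 : ψ.hom = 𝒳.p.map κ :=
        (IsHomLift.fac' (ofSp F.obj).p (𝒳.p.map κ) ψ).trans ((Category.id_comp _).trans (Category.comp_id _))
      have h4 := ψ.map_sec
      rwa [h3] at h4
    exact (hrestr sa Oa ia hia' f hf).trans (hrestr sb Ob ib hib' g ((Fp.isHomLift_iff g _).2 hf1)).symm
  have hsec : ∀ (s : F.obj.obj.obj (op (𝒳.p.obj y))) (O : (_root_.FibCat.fp G D).obj) (i : e.obj ⟨_, s⟩ ≅ O),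
      (_root_.FibCat.fp G D).p.IsHomLift (𝟙 (𝒳.p.obj y)) i.hom → O.obj.fst = o →
      (spMapOfOver (BasedFunctor.comp e (_root_.FibCat.fpFst G D))).hom.app (op (𝒳.p.obj y)) s = ⟨𝟙 _⟩ := by
    intro s O i hi hOo
    rw [spMapOfOver_app]
    refine congrArg ULift.up ?_
    have hl := (Fp.isHomLift_iff i.hom _).1 hi
    have hw' : i.hom.hom.fst.left ≫ O.obj.fst.hom = (e.obj ⟨_, s⟩).obj.fst.hom := Over.w i.hom.hom.fst
    have hlf := IsHomLift.fac' (_root_.FibCat.overCat (𝒳.p.obj y)).p (𝟙 (𝒳.p.obj y)) i.hom.hom.fst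
    change eqToHom _ ≫ ((e.obj ⟨_, s⟩).obj.fst).hom = 𝟙 _
    obtain ⟨⟨O1, O2, Oi⟩, hO⟩ := O
    obtain rfl : O1 = o := hOo
    simp only at hw' hlf
    rw [← hw', show i.hom.hom.fst.left = _ from hlf]
    simp [o, Yon.idObj]
  have e1 : sa = sb := by
    refine sections_eq_of_agree_dense F.property _ hsep hunr sa sb (hsec sa Oa ia hia' rfl)
      (hsec sb Ob ib hib' rfl) (hA.mono ?_)
    rintro x ⟨y', κ, hx, h⟩
    exact ⟨_, 𝒳.p.map κ, hx, hsame κ h⟩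
  subst e1
  have : (_root_.FibCat.fp G D).p.IsHomLift (𝟙 (𝒳.p.obj y)) ia.inv :=
    @GrothLib.FibCat.isHomLift_id_inv _ _ _ _ (_root_.FibCat.fp G D).p (𝒳.p.obj y) _ _ ia hia'
  let φ : Oa ⟶ Ob := ia.inv ≫ ib.hom
  have hφ : (_root_.FibCat.fp G D).p.IsHomLift (𝟙 (𝒳.p.obj y)) φ :=
    @IsHomLift.comp_lift_id_left' _ _ _ _ (_root_.FibCat.fp G D).p _ _ _ (𝒳.p.obj y) ia.inv this _ _
      (𝟙 (𝒳.p.obj y)) ib.hom hib'
  have hφ1 : φ.hom.fst = 𝟙 o := by
    have := (Fp.isHomLift_iff φ _).1 hφ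
    refine Over.OverMorphism.ext ?_
    exact (IsHomLift.fac' (_root_.FibCat.overCat (𝒳.p.obj y)).p (𝟙 (𝒳.p.obj y)) φ.hom.fst).trans
      ((Category.id_comp _).trans (Category.comp_id _))
  have hwφ := Fp.w φ
  have k1 : Y.map φ.hom.fst ≫ eY.hom = eY.hom ≫ φ.hom.snd := congrArg (fun q => q.hom.fst) hwφ
  have k2 : Y.map φ.hom.fst ≫ eY.hom ≫ b = (eY.hom ≫ a) ≫ φ.hom.snd := congrArg (fun q => q.hom.snd) hwφ
  rw [hφ1] at k1 k2
  erw [Y.map_id, Category.id_comp] at k1 k2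
  have hμ : φ.hom.snd = 𝟙 y := (cancel_epi eY.hom).1 (k1.symm.trans (Category.comp_id _).symm)
  rw [hμ, Category.comp_id] at k2
  exact ((cancel_epi eY.hom).1 k2).symm

/-- Vertical endomorphisms agreeing over a dense set of points agree, in terms of lifts. -/
theorem aut_eq_of_agree_dense' (hd : RepByAlgSpWith AlgSp.IsSeparatedMor (_root_.FibCat.diag (_root_.FibCat.toSelf 𝒳)))
    (hu : RepByAlgSpWith (AlgSp.LocP UnrP) (_root_.FibCat.diag (_root_.FibCat.toSelf 𝒳)))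
    (h𝒳 : _root_.FibCat.IsFibGrpd 𝒳.p) {y : 𝒳.obj} {R : Over S} (hy : 𝒳.p.obj y = R) (a b : y ⟶ y)
    (ha : 𝒳.p.IsHomLift (𝟙 R) a) (hb : 𝒳.p.IsHomLift (𝟙 R) b)
    (hA : Dense {x : R.left | ∃ (R' : Over S) (f : R' ⟶ R) (y' : 𝒳.obj) (κ : y' ⟶ y),
      𝒳.p.IsHomLift f κ ∧ x ∈ Set.range f.left ∧ κ ≫ a = κ ≫ b}) : a = b := by
  subst hy
  refine aut_eq_of_agree_dense hd hu h𝒳 a b (by simpa using IsHomLift.fac' 𝒳.p (𝟙 (𝒳.p.obj y)) a)
    (by simpa using IsHomLift.fac' 𝒳.p (𝟙 (𝒳.p.obj y)) b) (hA.mono ?_)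
  rintro x ⟨R', f, y', κ, hl, ⟨v, hv⟩, h⟩
  obtain rfl : 𝒳.p.obj y' = R' := IsHomLift.domain_eq 𝒳.p f κ
  obtain rfl : f = 𝒳.p.map κ := IsHomLift.eq_of_isHomLift 𝒳.p f κ
  exact ⟨y', κ, ⟨v, hv⟩, h⟩

end GrothLib.AlgSt
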